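import Cfsg.Agent.PERM.So5.Defs

set_option autoImplicit false
set_option linter.unusedSectionVars false

namespace CL.So5.CcN

open Subgroup Cfsg CL.MSS

variable {G : Type*} [Group G] [Finite G] {S Q Q' D : Subgroup G} (h : Cc S Q Q' D)
  (E : ∀ {X : Subgroup G}, X ≤ S → (∀ x ∈ X, x * x = 1) → X ≤ Q ∨ X ≤ Q')
include h E

theorem eqo {X : Subgroup G} (hX : X ≤ S) (el : ∀ x ∈ X, x * x = 1) (c : ♯X = ♯Q) : X = Q ∨ X = Q' :=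
  (E hX el).imp (fun k => eq_of_le_of_card_ge k c.ge)
    fun k => eq_of_le_of_card_ge k (by rw [c, h.cQ, h.cQ'])

omit h E in
theorem elc {X : Subgroup G} (el : ∀ x ∈ X, x * x = 1) (g : G) : ∀ x ∈ g •ᶜ X, x * x = 1 := fun x hx => by
  obtain ⟨y, hy, rfl⟩ := mem_cj'.1 hx
  rw [show g * y * g⁻¹ * (g * y * g⁻¹) = g * (y * y) * g⁻¹ by group, el y hy]
  group

/-- both conjugates in `S` -/
theorem ff (ne : Q ≠ Q') {g : G} (h1 : g •ᶜ Q ≤ S) (h2 : g •ᶜ Q' ≤ S) :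
    (g •ᶜ Q = Q ∧ g •ᶜ Q' = Q') ∨ (g •ᶜ Q = Q' ∧ g •ᶜ Q' = Q) := by
  rcases eqo h E h1 (elc h.el g) (card_cj _ _) with a | a <;>
    rcases eqo h E h2 (elc h.el' g) (by rw [card_cj, h.cQ, h.cQ']) with b | b
  · exact (ne ((cj_inj g).1 (a.trans b.symm))).elim
  · exact .inl ⟨a, b⟩
  · exact .inr ⟨a, b⟩
  · exact (ne ((cj_inj g).1 (a.trans b.symm))).elim

theorem card_nS (ne : Q ≠ Q') {g : G} (h1 : g •ᶜ Q = Q') (h2 : g •ᶜ Q' = Q) :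
    ♯(𝐍 S) = 2 * ♯(𝐍 Q ⊓ 𝐍 Q') := by
  have hle : 𝐍 Q ⊓ 𝐍 Q' ≤ 𝐍 S := h.sup ▸ le_normalizer_sup inf_le_left inf_le_right
  have hg : g ∈ 𝐍 S := mem_normalizer_iff_cj.2 (by rw [← h.sup, cj_sup, h1, h2, sup_comm])
  have i : (𝐍 Q ⊓ 𝐍 Q').relIndex (𝐍 S) = 2 := by
    refine relIndex_eq_two_iff.2 ⟨g, hg, fun b hb => ?_⟩
    simp only [mem_inf, mem_normalizer_iff_cj, cj_mul, h1, h2]
    rcases ff h E ne (cj_le_of_mem_normalizer (h.sup ▸ le_sup_left) hb)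
      (cj_le_of_mem_normalizer (h.sup ▸ le_sup_right) hb) with ⟨a, c⟩ | ⟨a, c⟩ <;> rw [a, c]
    · exact .inr ⟨⟨rfl, rfl⟩, fun k => ne k.2⟩
    · exact .inl ⟨⟨rfl, rfl⟩, fun k => ne k.2⟩
  rw [← ((𝐍 Q ⊓ 𝐍 Q').subgroupOf (𝐍 S)).card_mul_index, Nat.card_congr (subgroupOfEquivOfLe hle).toEquiv,
    mul_comm]
  exact congrArg (· * _) i

omit E in
theorem syl {T : Subgroup G} (hS : S ≤ T) (hT : SylIn 2 T (𝐍 S))
    (u : ∀ X : Subgroup G, X ≤ T → (∀ x ∈ X, x * x = 1) → ♯X = ♯Q → X ≤ S) : 𝐍 T ≤ 𝐍 S ∧ SylIn 2 T ⊤ := by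
  have k : 𝐍 T ≤ 𝐍 S := fun g hg => mem_normalizer_of_cj_le (by
    conv_lhs => rw [← h.sup, cj_sup]
    exact sup_le (u _ (cj_le_of_mem_normalizer ((h.sup ▸ le_sup_left : Q ≤ S).trans hS) hg) (elc h.el g)
      (card_cj _ _)) (u _ (cj_le_of_mem_normalizer ((h.sup ▸ le_sup_right : Q' ≤ S).trans hS) hg)
        (elc h.el' g) (by rw [card_cj, h.cQ, h.cQ'])))
  exact ⟨k, hT.of_normalizer_le le_top (inf_le_right.trans k)⟩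

theorem conj_into {T R : Subgroup G} (hT : SylIn 2 T ⊤) {γ : G} (hγ : γ ∈ T) (h2 : γ •ᶜ Q' = Q)
    (u : ∀ X : Subgroup G, X ≤ T → (∀ x ∈ X, x * x = 1) → ♯X = ♯Q → X ≤ S) (hR : IsPGroup 2 R) (hQ : Q ≤ R) :
    ∃ g ∈ 𝐍 Q, g •ᶜ R ≤ T := by
  obtain ⟨g, -, hg⟩ := hT.exists_conj_le hR le_top
  rcases eqo h E (u _ ((cj_mono g hQ).trans hg) (elc h.el g) (card_cj _ _)) (elc h.el g) (card_cj _ _)
    with a | a
  · exact ⟨g, mem_normalizer_iff_cj.2 a, hg⟩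
  · exact ⟨γ * g, mem_normalizer_iff_cj.2 (by rw [cj_mul, a, h2]), cj_mul γ g R ▸ cj_le_of_mem hg hγ⟩

end CL.So5.CcN
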