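import Cfsg.Agent.PERM.So5.PrmB0

/-! Transitive `3'`-subgroups of `S₅`. -/

set_option autoImplicit false

namespace CL.So5.PrmB

open Subgroup Cfsg CL.MSS

theorem f20 {H : Subgroup S5} (tr : ∀ i, ∃ σ ∈ H, σ 0 = i) (h3 : ¬ 3 ∣ ♯H) :
    ∃ f ∈ H, ∃ c ∈ H, orderOf f = 5 ∧ c 0 = 0 ∧ c ^ 4 = 1 ∧ (∀ σ ∈ H, σ 0 = 0 → σ ∈ zpowers c) ∧
      (∀ σ ∈ H, σ * f * σ⁻¹ ∈ zpowers f) ∧ (∀ σ ∈ H, σ 0 = 0 → σ * σ = 1 → σ ≠ 1 → σ * f * σ⁻¹ = f⁻¹) ∧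
      ∀ N : Subgroup S5, N ≤ H → N ≠ ⊥ → H ≤ 𝐍 N → f ∈ N := by
  have := Fact.mk Nat.prime_five
  have := Fact.mk Nat.prime_three
  have h5 : 5 ∣ ♯H := by
    have o : MulAction.orbit H (0 : Fin 5) = Set.univ := Set.eq_univ_of_forall fun i => by
      obtain ⟨σ, h, e⟩ := tr i
      exact ⟨⟨σ, h⟩, e⟩
    have := (MulAction.stabilizer H (0 : Fin 5)).index_dvd_card
    rwa [MulAction.index_stabilizer, o, Set.ncard_univ, Nat.card_fin] at this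
  obtain ⟨⟨f, fH⟩, o⟩ := exists_prime_orderOf_dvd_card' 5 h5
  rw [orderOf_mk] at o
  have f5 : f ^ 5 = 1 := orderOf_dvd_iff_pow_eq_one.1 (dvd_of_eq o)
  have f1 : f ≠ 1 := fun e => by simp [e] at o
  have nm : ∀ σ ∈ H, ∃ i : Fin 5, σ * f * σ⁻¹ = f ^ i.1 := fun σ h => by
    obtain ⟨i, e | e⟩ := d1 f f5 f1 (σ * f * σ⁻¹) (by rw [conj_pow, f5]; simp)
    · exact ⟨i, e⟩
    · exact (h3 (orderOf_eq_prime e.1 e.2 ▸ H.orderOf_dvd_natCard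
        (mul_mem (pow_mem fH _) (mul_mem (mul_mem h fH) (inv_mem h))))).elim
  obtain ⟨b, b0, -, b4, hb⟩ := d2 f f5 f1
  have hb' := fun σ (h : σ ∈ H) e => (nm σ h).elim fun i k => hb σ e i (mul_inv_eq_iff_eq_mul.1 k)
  obtain ⟨c, hc⟩ := (Subgroup.isCyclic_iff_exists_zpowers_eq_top (H ⊓ zpowers b)).1 (isCyclic_of_le inf_le_right)
  obtain ⟨cH, k, rfl⟩ := hc.le (mem_zpowers c)
  refine ⟨f, fH, _, cH, o, zpow_mem (show b ∈ MulAction.stabilizer S5 (0 : Fin 5) from b0) k, ?_, fun σ h e => hc.ge ⟨h, ?_⟩,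
    fun σ h => (nm σ h).elim fun i e => e ▸ npow_mem_zpowers f _, fun σ h e => (hb' σ h e).2, fun N l n nz => ?_⟩
  · show (b ^ k) ^ 4 = 1
    rw [← zpow_natCast, ← zpow_mul, mul_comm, zpow_mul, zpow_natCast, b4, one_zpow]
  · obtain ⟨j, rfl⟩ := (hb' σ h e).1
    exact npow_mem_zpowers b _
  have key : ∀ m : ℕ, f ^ m ∈ N → f ^ m ≠ 1 → f ∈ N := fun m h e => by
    obtain ⟨j, hj⟩ := exists_pow_eq_self_of_coprime (x := f) (n := m) (by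
      rw [o]
      exact (Nat.prime_five.coprime_iff_not_dvd.2 fun d => e (orderOf_dvd_iff_pow_eq_one.1 (o.dvd.trans d))).symm)
    exact hj ▸ pow_mem h j
  obtain ⟨⟨σ, h⟩, s1⟩ := ne_bot_iff_exists_ne_one.1 n
  by_cases cm : σ * f = f * σ
  · obtain ⟨i, rfl⟩ := d3 f f5 f1 σ cm
    exact key _ h fun e => s1 (Subtype.ext e)
  · obtain ⟨i, e⟩ := nm σ (l h)
    have e' : f ^ (i.1 + 4) = σ * (f * σ⁻¹ * f⁻¹) := by
      rw [pow_add, ← e, eq_inv_of_mul_eq_one_left ((pow_succ f 4).symm.trans f5)]; group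
    refine key (i.1 + 4) (e' ▸ mul_mem h ((mem_normalizer_iff.1 (nz fH) _).1 (inv_mem h))) fun k => cm ?_
    rw [e'] at k
    rw [← one_mul (f * σ), ← k]; group

theorem no20 {H : Subgroup S5} (tr : ∀ i, ∃ σ ∈ H, σ 0 = i) (h : ∀ σ ∈ H, σ 0 = 0 → V4 σ) (h' : ∀ σ, V4 σ → σ ∈ H) :
    False := by
  have := Fact.mk Nat.prime_three
  obtain ⟨f, -, -, -, o, -, -, -, -, k, -⟩ := f20 tr fun d => by
    obtain ⟨⟨t, tH⟩, o⟩ := exists_prime_orderOf_dvd_card' 3 d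
    rw [orderOf_mk] at o
    obtain ⟨i, e⟩ := d4 t (orderOf_dvd_iff_pow_eq_one.1 (dvd_of_eq o))
    obtain ⟨σ, s, rfl⟩ := tr i
    have := (h _ (mul_mem (mul_mem (inv_mem s) tH) s) (by simp [e])).2.1
    rw [show σ⁻¹ * t * σ * (σ⁻¹ * t * σ) = σ⁻¹ * t ^ 2 * σ⁻¹⁻¹ by rw [pow_two]; group, conj_eq_one_iff,
      ← orderOf_dvd_iff_pow_eq_one, o] at this
    omega
  have v : ∀ σ, V4 σ → σ ≠ 1 → σ * f * σ⁻¹ = f⁻¹ := fun σ a => k σ (h' σ a) a.1 a.2.1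
  have a := v (Equiv.swap 1 2 * Equiv.swap 3 4) (by decide) (by decide)
  have b := v (Equiv.swap 1 3 * Equiv.swap 2 4) (by decide) (by decide)
  have c := v (Equiv.swap 1 2 * Equiv.swap 3 4 * (Equiv.swap 1 3 * Equiv.swap 2 4)) (by decide) (by decide)
  generalize Equiv.swap (1 : Fin 5) 2 * Equiv.swap 3 4 = x at a c
  generalize Equiv.swap (1 : Fin 5) 3 * Equiv.swap 2 4 = y at b c
  rw [show x * y * f * (x * y)⁻¹ = x * (y * f * y⁻¹) * x⁻¹ by group, b, ← conj_inv, a, inv_inv,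
    eq_inv_iff_mul_eq_one, ← pow_two, ← orderOf_dvd_iff_pow_eq_one, o] at c
  omega

end CL.So5.PrmB
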