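import Cfsg.Agent.PERM.So5.Defs

/-! Elements of order five in `S₅`. -/

set_option autoImplicit false

namespace CL.So5.PrmB

open Subgroup Cfsg CL.MSS

theorem d1 : ∀ f : S5, f ^ 5 = 1 → f ≠ 1 → ∀ g : S5, g ^ 5 = 1 → ∃ i : Fin 5, g = f ^ i.1 ∨
    ((f ^ i.1 * g) ^ 3 = 1 ∧ f ^ i.1 * g ≠ 1) := by decide +kernel

theorem d2 : ∀ f : S5, f ^ 5 = 1 → f ≠ 1 → ∃ c : S5, c 0 = 0 ∧ c * f = f ^ 2 * c ∧ c ^ 4 = 1 ∧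
    ∀ σ : S5, σ 0 = 0 → ∀ i : Fin 5, σ * f = f ^ i.1 * σ → (∃ j : Fin 4, c ^ j.1 = σ) ∧
      (σ * σ = 1 → σ ≠ 1 → σ * f * σ⁻¹ = f⁻¹) := by decide +kernel

theorem d3 : ∀ f : S5, f ^ 5 = 1 → f ≠ 1 → ∀ σ : S5, σ * f = f * σ → ∃ i : Fin 5, f ^ i.1 = σ := by decide +kernel

theorem d4 : ∀ t : S5, t ^ 3 = 1 → ∃ i, t i = i := by decide +kernel

end CL.So5.PrmB
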