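import Cfsg.Agent.PERM.So5.Defs

/-!
S3568 (suborbit of length five): an automorphism of a group of order nine.
-/

set_option autoImplicit false
set_option linter.unusedSectionVars false

namespace CL.So5.Sw9

open Subgroup Cfsg CL.MSS
open scoped commutatorElement

variable {G : Type*} [Group G] [Finite G]

theorem three {a x : G} (a3 : orderOf a = 3) (hx : x ∈ zpowers a) : x = 1 ∨ x = a ∨ x = a⁻¹ := by
  have h3 : a ^ 3 = 1 := a3 ▸ pow_orderOf_eq_one a
  obtain ⟨k, rfl⟩ := mem_zpowers_iff.1 hx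
  rw [← zpow_mod_orderOf, a3]
  have : k % ((3 : ℕ) : ℤ) = 0 ∨ k % ((3 : ℕ) : ℤ) = 1 ∨ k % ((3 : ℕ) : ℤ) = 2 := by omega
  rcases this with h | h | h <;> rw [h]
  · exact Or.inl (zpow_zero a)
  · exact Or.inr (Or.inl (zpow_one a))
  · refine Or.inr (Or.inr (eq_inv_of_mul_eq_one_left ?_))
    rw [← h3, zpow_two, pow_succ, pow_two]

theorem ne {a : G} (a3 : orderOf a = 3) : a ≠ 1 := fun e => by simp [e] at a3

theorem zp {a x : G} (a3 : orderOf a = 3) (hx : x ∈ zpowers a) (x1 : x ≠ 1) : zpowers x = zpowers a := by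
  rcases three a3 hx with h | h | h
  · exact absurd h x1
  · rw [h]
  · rw [h, zpowers_inv]

/-- a subgroup of `H` with two different subgroups of order three is `H` -/
theorem gen {H K : Subgroup G} (c9 : ♯H = 9) (KH : K ≤ H) {a b : G} (ha : a ∈ K) (hb : b ∈ K)
    (a3 : orderOf a = 3) (b3 : orderOf b = 3) (ab : zpowers a ≠ zpowers b) : H ≤ K := by
  have d := card_dvd_of_le KH
  rw [c9, show 9 = 3 ^ 2 from rfl] at d
  obtain ⟨i, hi, e⟩ := (Nat.dvd_prime_pow Nat.prime_three).1 d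
  have k : ∀ x ∈ K, orderOf x = 3 → ♯K ≤ 3 → zpowers x = K := fun x hx x3 l =>
    eq_of_le_of_card_ge (zpowers_le.2 hx) (by rwa [Nat.card_zpowers, x3])
  refine (eq_of_le_of_card_ge KH ?_).ge
  by_contra l
  have : ♯K ≤ 3 := by
    rw [c9, e] at l; rw [e]
    interval_cases i <;> omega
  exact ab ((k a ha a3 this).trans (k b hb b3 this).symm)

theorem swap9 {H : Subgroup G} (c9 : ♯H = 9) {a b c e m : G} (ha : a ∈ H) (hb : b ∈ H) (hc : c ∈ H) (he : e ∈ H) (a3 : orderOf a = 3) (b3 : orderOf b = 3) (c3 : orderOf c = 3)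
    (e3 : orderOf e = 3) (ab : zpowers a ≠ zpowers b) (ac : zpowers a ≠ zpowers c) (ae : zpowers a ≠ zpowers e) (bc : zpowers b ≠ zpowers c) (be : zpowers b ≠ zpowers e)
    (ce : zpowers c ≠ zpowers e) (m1 : m •ᶜ zpowers a = zpowers b) (m2 : m •ᶜ zpowers b = zpowers a) (m3 : m •ᶜ zpowers c = zpowers e) :
    ∀ x ∈ H, m ^ 2 * x * (m ^ 2)⁻¹ = x⁻¹ := by
  have : Fact (Nat.Prime 3) := ⟨Nat.prime_three⟩
  have cm : ∀ x ∈ H, ∀ y ∈ H, x * y = y * x := fun x hx y hy => congrArg Subtype.val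
    ((IsPGroup.isMulCommutative_of_card_eq_prime_sq (p := 3) (G := H) c9).is_comm.comm ⟨x, hx⟩ ⟨y, hy⟩)
  set α : G ≃* G := MulAut.conj m with hα
  have ap : ∀ x, α x = m * x * m⁻¹ := fun _ => rfl
  have o : ∀ x, orderOf (α x) = orderOf x := fun x => α.orderOf_eq x
  -- `β = α a` replaces `b`
  have hβ : α a ∈ zpowers b := m1 ▸ conj_mem_cj (mem_zpowers a)
  have zβ : zpowers (α a) = zpowers b := zp b3 hβ (ne ((o a).trans a3))
  have βH : α a ∈ H := zpowers_le.2 hb hβ
  have h2 : α (α a) ∈ zpowers a := m2 ▸ conj_mem_cj hβ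
  have aβ : zpowers a ≠ zpowers (α a) := zβ ▸ ab
  have key : α (α a) = a⁻¹ := by
    rcases three a3 h2 with h | h | h
    · exact absurd h (ne ((o _).trans ((o a).trans a3)))
    · exfalso
      -- `c = a ^ i β ^ j`, `α c ∈ {c, c⁻¹}`
      let K : Subgroup G :=
        { carrier := {x | ∃ u ∈ zpowers a, ∃ v ∈ zpowers (α a), x = u * v}
          one_mem' := ⟨1, one_mem _, 1, one_mem _, (mul_one _).symm⟩
          mul_mem' := by
            rintro _ _ ⟨u, hu, v, hv, rfl⟩ ⟨u', hu', v', hv', rfl⟩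
            refine ⟨u * u', mul_mem hu hu', v * v', mul_mem hv hv', ?_⟩
            rw [mul_assoc, ← mul_assoc v, cm v (zpowers_le.2 βH hv) u' (zpowers_le.2 ha hu')]; group
          inv_mem' := by
            rintro _ ⟨u, hu, v, hv, rfl⟩
            refine ⟨u⁻¹, inv_mem hu, v⁻¹, inv_mem hv, ?_⟩
            rw [cm u (zpowers_le.2 ha hu) v (zpowers_le.2 βH hv), mul_inv_rev] }
      have KH : K ≤ H := by
        rintro _ ⟨u, hu, v, hv, rfl⟩
        exact mul_mem (zpowers_le.2 ha hu) (zpowers_le.2 βH hv)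
      obtain ⟨u, hu, v, hv, q⟩ := gen c9 KH ⟨a, mem_zpowers a, 1, one_mem _, (mul_one _).symm⟩
        ⟨1, one_mem _, α a, mem_zpowers _, (one_mul _).symm⟩ a3 ((o a).trans a3) aβ hc
      have w := cm a ha _ βH
      have w' := cm a⁻¹ (inv_mem ha) _ βH
      have w'' := cm a ha _ (inv_mem βH)
      have w''' := cm a⁻¹ (inv_mem ha) _ (inv_mem βH)
      have : α c ∈ zpowers c := by
        rcases three a3 hu with r | r | r <;> rw [r] at q
        · exact absurd ((zp ((o a).trans a3) (by rwa [q, one_mul]) (ne c3)).trans zβ).symm bc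
        all_goals rcases three ((o _).trans a3) hv with s | s | s <;> rw [s] at q
        · exact absurd (zp a3 (by rw [q, mul_one]; exact mem_zpowers a) (ne c3)).symm ac
        · rw [show α c = c by rw [q, map_mul, h, w]]; exact mem_zpowers c
        · rw [show α c = c⁻¹ by rw [q, map_mul, map_inv, h, mul_inv_rev, inv_inv]]
          exact inv_mem (mem_zpowers c)
        · exact absurd (zp a3 (by rw [q, mul_one]; exact inv_mem (mem_zpowers a)) (ne c3)).symm ac
        · rw [show α c = c⁻¹ by rw [q, map_mul, map_inv, h, mul_inv_rev, inv_inv]]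
          exact inv_mem (mem_zpowers c)
        · rw [show α c = c by rw [q, map_mul, map_inv, map_inv, h, w''']]; exact mem_zpowers c
      have h3 : α c ∈ zpowers e := m3 ▸ conj_mem_cj (mem_zpowers c)
      have n := ne ((o c).trans c3)
      exact ce ((zp c3 this n).symm.trans (zp e3 h3 n))
    · exact h
  let K : Subgroup G :=
    { carrier := {x | x ∈ H ∧ α (α x) = x⁻¹}
      one_mem' := ⟨one_mem _, by simp⟩
      mul_mem' := fun {x y} hx hy => ⟨mul_mem hx.1 hy.1, by
        rw [map_mul, map_mul, hx.2, hy.2, cm x hx.1 y hy.1, mul_inv_rev]⟩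
      inv_mem' := fun {x} hx => ⟨inv_mem hx.1, by rw [map_inv, map_inv, hx.2]⟩ }
  intro x hx
  have := (gen (K := K) c9 (fun _ h => h.1) ⟨ha, key⟩ ⟨βH, by rw [key, map_inv]⟩ a3 ((o a).trans a3) aβ hx).2
  rw [← this, ap, ap, pow_two]; group

end CL.So5.Sw9
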